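import Groth.Agent.Deform.FrobDesc.Points
import Groth.Agent.Deform.Chev.Stab
import Groth.Agent.HopfPtLib.Conv3

/-!
# Descent of a subgroup mapped onto itself by Frobenius
-/

set_option autoImplicit false
set_option linter.style.haveILetI false
set_option linter.unusedSectionVars false
set_option maxHeartbeats 1000000

universe u

open CategoryTheory CategoryTheory.Limits MonoidalCategory CartesianMonoidalCategory MonObj AlgebraicGeometry
open WithConv
open scoped TensorProduct

attribute [local instance] CategoryTheory.Hom.monoid CategoryTheory.Hom.group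

noncomputable section

namespace Groth.Agent.Deform.FrobDesc

open GrpSchLib.AffineHopf (sp spMap)
open Chev (Pt pimg)

variable {k K : Type u} [Field k] [Field K] [Algebra k K]

/-- **Artin's lemma**: functions independent over the fixed field of Frobenius are independent over the field. -/
theorem indep_of_frob {V : Type u} [AddCommGroup V] [Module k V] {S : Type u} (ev : S → V →ₗ[k] K) {q : ℕ}
    (f : K →+* K) (hf : ∀ c, f c = c ^ q) (hfix : ∀ c : K, c ^ q = c → c ∈ Set.range (algebraMap k K))
    (hdef : ∀ v, (∀ s, ev s v = 0) → v = 0) (hsu : ∀ s, ∃ s', ∀ v, ev s v = ev s' v ^ q)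
    {κ : Type u} (e : κ → V) (he : LinearIndependent k e) :
    ∀ (t : Finset κ) (c : κ → K), (∀ s, ∑ i ∈ t, ev s (e i) * c i = 0) → ∀ i ∈ t, c i = 0 := by
  classical
  intro t
  induction t using Finset.strongInduction with
  | _ t ih =>
    intro c hc i hi
    by_contra hci
    let d : κ → K := fun j => c j * (c i)⁻¹
    have hd : ∀ s, ∑ j ∈ t, ev s (e j) * d j = 0 := fun s => by
      show ∑ j ∈ t, ev s (e j) * (c j * (c i)⁻¹) = 0
      rw [Finset.sum_congr rfl (fun j _ => (mul_assoc (ev s (e j)) (c j) (c i)⁻¹).symm), ← Finset.sum_mul, hc s, zero_mul]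
    have hdi : d i = 1 := mul_inv_cancel₀ hci
    have hdq : ∀ s, ∑ j ∈ t, ev s (e j) * d j ^ q = 0 := fun s => by
      obtain ⟨s', hs'⟩ := hsu s
      have h := congrArg f (hd s')
      rw [map_zero, map_sum] at h
      simp only [map_mul] at h
      simpa only [hf, ← hs'] using h
    have hdiff : ∀ j ∈ t, d j ^ q = d j := by
      have h0 : ∀ j ∈ t.erase i, d j ^ q - d j = 0 := ih (t.erase i) (Finset.erase_ssubset hi) _ fun s => by
        rw [Finset.sum_erase t (by rw [hdi, one_pow, sub_self, mul_zero])]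
        simp only [mul_sub, Finset.sum_sub_distrib, hd s, hdq s, sub_self]
      intro j hj
      rcases eq_or_ne j i with rfl | hne
      · rw [hdi, one_pow]
      · exact sub_eq_zero.mp (h0 j (Finset.mem_erase.mpr ⟨hne, hj⟩))
    choose g hg using fun j (hj : j ∈ t) => hfix (d j) (hdiff j hj)
    let g' : κ → k := fun j => if hj : j ∈ t then g j hj else 0
    have hg' : ∀ j ∈ t, d j = algebraMap k K (g' j) := fun j hj => by simp [g', hj, hg]
    have h1 : ∑ j ∈ t, g' j • e j = 0 := hdef _ fun s => by
      rw [map_sum]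
      refine Eq.trans (Finset.sum_congr rfl fun j hj => ?_) (hd s)
      rw [map_smul, Algebra.smul_def, hg' j hj, mul_comm]
    have h2 := linearIndependent_iff'.mp he t g' h1 i hi
    have h3 := hg' i hi
    rw [hdi, h2, map_zero] at h3
    exact one_ne_zero h3

variable {V : Type u} [CommRing V] [Algebra k V] {S : Type u} (ev : S → V →ₐ[k] K)

theorem eq_zero_of_eval {q : ℕ} (f : K →+* K) (hf : ∀ c, f c = c ^ q)
    (hfix : ∀ c : K, c ^ q = c → c ∈ Set.range (algebraMap k K))
    (hdef : ∀ v, (∀ s, ev s v = 0) → v = 0) (hsu : ∀ s, ∃ s', ∀ v, ev s v = ev s' v ^ q) (z : V ⊗[k] K)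
    (hz : ∀ s, Algebra.TensorProduct.lift (ev s) (AlgHom.id k K) (fun _ _ => Commute.all _ _) z = 0) : z = 0 := by
  classical
  let B := Module.Basis.ofVectorSpace k V
  obtain ⟨c, rfl⟩ := (TensorProduct.equivFinsuppOfBasisLeft B (N := K)).symm.surjective z
  rw [TensorProduct.equivFinsuppOfBasisLeft_symm_apply] at hz ⊢
  have h := indep_of_frob (fun s => (ev s).toLinearMap) f hf hfix hdef hsu B B.linearIndependent c.support c fun s => by
    simpa [Finsupp.sum, map_sum] using hz s
  exact Finset.sum_eq_zero fun i hi => by simp [h i hi]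

theorem eq_zero_of_eval₂ (hdef : ∀ v, (∀ s, ev s v = 0) → v = 0) {q : ℕ} (f : K →+* K) (hf : ∀ c, f c = c ^ q)
    (hfix : ∀ c : K, c ^ q = c → c ∈ Set.range (algebraMap k K)) (hsu : ∀ s, ∃ s', ∀ v, ev s v = ev s' v ^ q)
    (z : V ⊗[k] V)
    (hz : ∀ s t, Algebra.TensorProduct.lift (ev s) (ev t) (fun _ _ => Commute.all _ _) z = 0) : z = 0 := by
  classical
  let B := Module.Basis.ofVectorSpace k V
  obtain ⟨v, rfl⟩ := (TensorProduct.equivFinsuppOfBasisLeft B (N := V)).symm.surjective z
  rw [TensorProduct.equivFinsuppOfBasisLeft_symm_apply] at hz ⊢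
  refine Finset.sum_eq_zero fun i hi => ?_
  have h : ∀ t, ∀ i ∈ v.support, ev t (v i) = 0 := fun t =>
    indep_of_frob (fun s => (ev s).toLinearMap) f hf hfix hdef hsu B B.linearIndependent v.support
      (fun j => ev t (v j)) fun s => by simpa [Finsupp.sum, map_sum] using hz s t
  show B i ⊗ₜ[k] v i = 0
  rw [hdef _ fun t => h t i hi, TensorProduct.tmul_zero]

variable {A : Type u} [CommRing A] [HopfAlgebra k A] [Algebra.FiniteType k A] [IsAlgClosed K]

theorem toPt_inv (x : Pt (Red.bc (yK k K) (sp k A))) :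
    toPt A x⁻¹ = toConv ((toPt A x).ofConv.comp (HopfAlgebra.antipodeAlgHom k A)) := by
  refine (left_inv_eq_right_inv (HopfPtLib.antipode_comp_convMul (toPt A x).ofConv) ?_).symm
  rw [toConv_ofConv, ← map_mul, mul_inv_cancel, map_one]

/-- **Descent**: a reduced subgroup carried onto itself by Frobenius is defined over the finite field. -/
theorem exists_descent {q : ℕ} (f : K →+* K) (hf : ∀ c, f c = c ^ q)
    (hfix : ∀ c : K, c ^ q = c → c ∈ Set.range (algebraMap k K))
    {B : Over (Spec (CommRingCat.of K))} [GrpObj B] [IsReduced B.left] [LocallyOfFiniteType B.hom]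
    (b : B ⟶ Red.bc (yK k K) (sp k A)) [IsMonHom b] [IsClosedImmersion b.left]
    (hsu : ∀ x : Pt B, ∃ x' : Pt B, ∀ a, (toPt A (x ≫ b)).ofConv a = (toPt A (x' ≫ b)).ofConv a ^ q) :
    ∃ (J : Ideal A) (_ : J.IsHopfIdeal k) (e : Red.bc (yK k K) (sp k (A ⧸ J)) ≅ B),
      IsMonHom e.hom ∧ e.hom ≫ b = (Over.pullback (yK k K)).map (spMap (Ideal.Quotient.mkₐ k J)) ∧
      IsClosedImmersion (spMap (Ideal.Quotient.mkₐ k J) : sp k (A ⧸ J) ⟶ sp k A).left := by
  classical
  let J : Ideal A := ⨅ s : Pt B, RingHom.ker (toPt A (s ≫ b)).ofConv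
  have hJle : ∀ s : Pt B, ∀ a ∈ J, (toPt A (s ≫ b)).ofConv a = 0 := fun s a ha =>
    (Ideal.mem_iInf.mp ha) s
  let Q := Ideal.Quotient.mkₐ k J
  let ev : Pt B → (A ⧸ J) →ₐ[k] K := fun s => Ideal.Quotient.liftₐ J (toPt A (s ≫ b)).ofConv (hJle s)
  have hdef : ∀ v, (∀ s, ev s v = 0) → v = 0 := fun v hv => by
    obtain ⟨a, rfl⟩ := Ideal.Quotient.mk_surjective v
    exact Ideal.Quotient.eq_zero_iff_mem.mpr (Ideal.mem_iInf.mpr hv)
  have hsu' : ∀ s, ∃ s', ∀ v, ev s v = ev s' v ^ q := fun s => by
    obtain ⟨s', hs'⟩ := hsu s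
    refine ⟨s', fun v => ?_⟩
    obtain ⟨a, rfl⟩ := Ideal.Quotient.mk_surjective v
    exact hs' a
  haveI hJ : J.IsHopfIdeal k := by
    refine { counit_eq_zero := fun x hx => ?_, map_mkQ_comul_eq_zero := fun x hx => ?_,
             antipode_mem := fun x hx => Ideal.mem_iInf.mpr fun s => ?_ }
    · have h := hJle 1 x hx
      rw [MonObj.one_comp, map_one, AlgHom.convOne_apply] at h
      exact (map_eq_zero_iff _ (algebraMap k K).injective).mp h
    · have e : ∀ y : A ⊗[k] A, Algebra.TensorProduct.map Q Q y = 0 →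
          TensorProduct.map (J.restrictScalars k).mkQ (J.restrictScalars k).mkQ y = 0 := fun y hy => hy
      refine e _ (eq_zero_of_eval₂ ev hdef f hf hfix hsu' _ fun s t => ?_)
      have h := hJle (s * t) x hx
      rw [MonObj.mul_comp, map_mul, AlgHom.convMul_apply] at h
      refine Eq.trans ?_ h
      generalize Coalgebra.comul (R := k) x = y
      induction y using TensorProduct.induction_on with
      | zero => simp
      | tmul c d => simp [ev, Q]
      | add c d hc hd => simp only [map_add, hc, hd]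
    · show (toPt A (s ≫ b)).ofConv (HopfAlgebra.antipodeAlgHom k A x) = 0
      have h := hJle s⁻¹ x hx
      rw [GrpObj.inv_comp, toPt_inv] at h
      exact h
  let C := Red.bc (yK k K) (sp k (A ⧸ J))
  let c : C ⟶ Red.bc (yK k K) (sp k A) := (Over.pullback (yK k K)).map (spMap Q)
  haveI hcl : IsClosedImmersion (spMap Q : sp k (A ⧸ J) ⟶ sp k A).left :=
    IsClosedImmersion.spec_of_surjective _ Ideal.Quotient.mk_surjective
  haveI : IsMonHom (spMap Q : sp k (A ⧸ J) ⟶ sp k A) :=
    GrpSchLib.AffineHopf.isMonHom_spMap (Bialgebra.Quotient.mkBialgHom J : A →ₐc[k] A ⧸ J)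
  haveI : IsClosedImmersion c.left :=
    MorphismProperty.of_isPullback (Neutral.isPullback_map (yK k K) (spMap Q)).flip hcl
  haveI : IsReduced C.left := by
    haveI : _root_.IsReduced ((A ⧸ J) ⊗[k] K) := ⟨fun z hz =>
      eq_zero_of_eval ev f hf hfix hdef hsu' z fun s => (hz.map _).eq_zero⟩
    haveI : IsReduced (Spec (CommRingCat.of ((A ⧸ J) ⊗[k] K))) := inferInstance
    exact isReduced_of_isOpenImmersion (bcIso (k := k) (K := K) (A ⧸ J)).hom
  haveI : LocallyOfFiniteType (sp k A).hom := by
    show LocallyOfFiniteType (Spec.map (CommRingCat.ofHom (algebraMap k A)))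
    rw [HasRingHomProperty.Spec_iff (P := @LocallyOfFiniteType), CommRingCat.hom_ofHom, RingHom.finiteType_algebraMap]
    infer_instance
  haveI : LocallyOfFiniteType (Red.bc (yK k K) (sp k A)).hom :=
    inferInstanceAs (LocallyOfFiniteType (pullback.snd (sp k A).hom (yK k K)))
  haveI : LocallyOfFiniteType C.hom := by rw [← Over.w c]; infer_instance
  -- every point of the descended group is a point of the subgroup
  have hCB : ∀ w : Pt C, pimg (w ≫ c) ∈ Set.range b.left := by
    intro w
    by_contra hw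
    let I := bcIso (k := k) (K := K) A
    obtain ⟨T, hT⟩ := (PrimeSpectrum.isClosed_iff_zeroLocus (R := A ⊗[k] K)
      (I.hom '' Set.range b.left)).mp ((Scheme.Hom.homeomorph I.hom).isClosed_image.mpr
        b.left.isClosedEmbedding.isClosed_range)
    have key : ∀ x : Pt (Red.bc (yK k K) (sp k A)), (pimg x ∈ Set.range b.left ↔ ∀ z ∈ T,
        Algebra.TensorProduct.lift (toPt A x).ofConv (AlgHom.id k K) (fun _ _ => Commute.all _ _) z = 0) := by
      intro x
      have h1 : pimg x ∈ Set.range b.left ↔ I.hom (pimg x) ∈ I.hom '' Set.range b.left :=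
        ((Scheme.Hom.homeomorph I.hom).injective.mem_set_image).symm
      refine h1.trans ((Set.ext_iff.mp hT _).trans ?_)
      have h2 : I.hom (pimg x) = PrimeSpectrum.comap
          (Algebra.TensorProduct.lift (toPt A x).ofConv (AlgHom.id k K) (fun _ _ => Commute.all _ _)).toRingHom
          (IsLocalRing.closedPoint K) :=
        congrArg (fun m => m.base (IsLocalRing.closedPoint K)) (pt_bcIso x)
      rw [h2]
      refine ⟨fun h z hz => ?_, fun h z hz => ?_⟩
      · have h3 : (Algebra.TensorProduct.lift (toPt A x).ofConv (AlgHom.id k K) (fun _ _ => Commute.all _ _)) z ∈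
            IsLocalRing.maximalIdeal K := h hz
        simpa using h3
      · show _ ∈ IsLocalRing.maximalIdeal K
        have := h z hz
        simpa using this
    refine hw ((key _).mpr fun z hz => ?_)
    have hw' : toPt A (w ≫ c) = toConv ((toPt (A ⧸ J) w).ofConv.comp Q) := toPt_map Q w
    have h0 : Algebra.TensorProduct.map Q (AlgHom.id k K) z = 0 := by
      refine eq_zero_of_eval ev f hf hfix hdef hsu' _ fun s => ?_
      have h := (key (s ≫ b)).mp ⟨pimg s, rfl⟩ z hz
      refine Eq.trans ?_ h
      generalize z = y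
      induction y using TensorProduct.induction_on with
      | zero => simp
      | tmul c d => simp [ev, Q]
      | add c d hc hd => simp only [map_add, hc, hd]
    have h := congrArg
      (Algebra.TensorProduct.lift (toPt (A ⧸ J) w).ofConv (AlgHom.id k K) (fun _ _ => Commute.all _ _)) h0
    rw [map_zero] at h
    refine Eq.trans ?_ h
    rw [hw', ofConv_toConv]
    generalize z = y
    induction y using TensorProduct.induction_on with
    | zero => simp
    | tmul c d => simp
    | add c d hc hd => simp only [map_add, hc, hd]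
  have hBC : ∀ s : Pt B, pimg (s ≫ b) ∈ Set.range c.left := by
    intro s
    obtain ⟨w, hw⟩ := toPt_surjective (toConv (ev s))
    refine ⟨pimg w, ?_⟩
    show pimg (w ≫ c) = _
    refine congrArg pimg (toPt_injective ?_)
    rw [toPt_map, hw, ofConv_toConv]
    exact WithConv.ofConv_injective (AlgHom.ext fun a => rfl)
  obtain ⟨φ, hφ⟩ := Chev.exists_lift_range b c (Chev.mem_of_pts c b.left.isClosedEmbedding.isClosed_range hCB)
  obtain ⟨ψ, hψ⟩ := Chev.exists_lift_range c b (Chev.mem_of_pts b c.left.isClosedEmbedding.isClosed_range hBC)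
  haveI : Mono b := (Over.forget _).mono_of_mono_map (inferInstanceAs (Mono b.left))
  haveI : Mono c := (Over.forget _).mono_of_mono_map (inferInstanceAs (Mono c.left))
  refine ⟨J, hJ, ⟨φ, ψ, ?_, ?_⟩, Deform.isMonHom_of_comp φ b (i := c) hφ, hφ, hcl⟩
  · rw [← cancel_mono c, Category.assoc, hψ, hφ, Category.id_comp]
  · rw [← cancel_mono b, Category.assoc, hφ, hψ, Category.id_comp]

end Groth.Agent.Deform.FrobDesc
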