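import Groth.Agent.Deform.FrobDesc.Descend
import Groth.Agent.GrpSchLib.LangFinite
import Groth.Agent.GrpSchLib.LangGroup
import Groth.Agent.Deform.TorusAlg
import Groth.Agent.Deform.SpecialGrp.Main
import Mathlib.FieldTheory.Finite.Basic

/-!
# Frobenius on a base change and Lang's theorem on points
-/

set_option autoImplicit false
set_option linter.style.haveILetI false
set_option linter.unusedSectionVars false
set_option maxHeartbeats 1000000

universe u

open CategoryTheory CategoryTheory.Limits MonoidalCategory CartesianMonoidalCategory MonObj AlgebraicGeometry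
open WithConv
open scoped TensorProduct

attribute [local instance] CategoryTheory.Hom.monoid CategoryTheory.Hom.group

noncomputable section

namespace Groth.Agent.Deform.FrobDesc

open GrpSchLib.AffineHopf (sp spMap spMap_comp spMap_id spMap_mul)
open Chev (Pt pimg)

variable (k : Type u) [Field k] [Fintype k] (A : Type u) [CommRing A] [HopfAlgebra k A]

/-- Frobenius is a map of Hopf algebras. -/
def frobBialg : A →ₐc[k] A := BialgHom.ofAlgHom (FiniteField.frobeniusAlgHom k A)
  (AlgHom.ext fun a => by
    show Bialgebra.counitAlgHom k A (a ^ Fintype.card k) = Bialgebra.counitAlgHom k A a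
    rw [map_pow, FiniteField.pow_card])
  (AlgHom.ext fun a => by
    have h : Algebra.TensorProduct.map (FiniteField.frobeniusAlgHom k A) (FiniteField.frobeniusAlgHom k A) =
        FiniteField.frobeniusAlgHom k (A ⊗[k] A) :=
      Algebra.TensorProduct.ext (AlgHom.ext fun x => by
          show (x ^ Fintype.card k) ⊗ₜ[k] ((1 : A) ^ Fintype.card k) = (x ⊗ₜ[k] (1 : A)) ^ Fintype.card k
          simp [Algebra.TensorProduct.tmul_pow])
        (AlgHom.ext fun x => by
          show ((1 : A) ^ Fintype.card k) ⊗ₜ[k] (x ^ Fintype.card k) = ((1 : A) ⊗ₜ[k] x) ^ Fintype.card k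
          simp [Algebra.TensorProduct.tmul_pow])
    rw [h]
    show (Bialgebra.comulAlgHom k A a) ^ Fintype.card k = Bialgebra.comulAlgHom k A (a ^ Fintype.card k)
    rw [map_pow])

variable {k A} {K : Type u} [Field K] [Algebra k K]

variable (K) in
/-- Frobenius of the finite field on the base change. -/
def frob : Red.bc (yK k K) (sp k A) ⟶ Red.bc (yK k K) (sp k A) :=
  (Over.pullback (yK k K)).map (spMap (FiniteField.frobeniusAlgHom k A))

instance isMonHom_frob : IsMonHom (frob K : Red.bc (yK k K) (sp k A) ⟶ _) := by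
  haveI : IsMonHom (spMap (FiniteField.frobeniusAlgHom k A) : sp k A ⟶ sp k A) :=
    GrpSchLib.AffineHopf.isMonHom_spMap (frobBialg k A)
  unfold frob
  infer_instance

theorem toPt_frob (x : Pt (Red.bc (yK k K) (sp k A))) (a : A) :
    (toPt A (x ≫ frob K)).ofConv a = (toPt A x).ofConv a ^ Fintype.card k := by
  rw [frob, toPt_map, ofConv_toConv]
  exact map_pow (toPt A x).ofConv a _

instance surjective_frob : Surjective (frob K : Red.bc (yK k K) (sp k A) ⟶ _).left := by
  haveI : Surjective (spMap (FiniteField.frobeniusAlgHom k A) : sp k A ⟶ sp k A).left := ⟨fun x =>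
    ⟨x, PrimeSpectrum.ext (Ideal.ext fun a =>
      (show a ^ Fintype.card k ∈ (x : PrimeSpectrum A).asIdeal ↔ a ∈ (x : PrimeSpectrum A).asIdeal from
        (x : PrimeSpectrum A).isPrime.pow_mem_iff_mem _ Fintype.card_pos))⟩⟩
  exact SpecialGrp.surjective_map (yK k K) (spMap (FiniteField.frobeniusAlgHom k A))

/-- The fixed field of Frobenius is the finite field. -/
theorem mem_range_of_pow_card (c : K) (hc : c ^ Fintype.card k = c) : c ∈ Set.range (algebraMap k K) := by
  classical
  let q := Fintype.card k
  by_contra hcon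
  let S := insert c (Finset.univ.image (algebraMap k K))
  have hcard : q < S.card := by
    rw [Finset.card_insert_of_notMem (by simpa using hcon),
      Finset.card_image_of_injective _ (algebraMap k K).injective, Finset.card_univ]
    exact Nat.lt_succ_self _
  have hp : (Polynomial.X ^ q - Polynomial.X : Polynomial K) ≠ 0 :=
    FiniteField.X_pow_card_sub_X_ne_zero K Fintype.one_lt_card
  have hsub : S ⊆ (Polynomial.X ^ q - Polynomial.X : Polynomial K).roots.toFinset := fun z hz => by
    rw [Multiset.mem_toFinset, Polynomial.mem_roots hp, Polynomial.IsRoot.def]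
    rcases Finset.mem_insert.mp hz with rfl | hz
    · simp [q, hc]
    · obtain ⟨w, -, rfl⟩ := Finset.mem_image.mp hz
      simp [q, ← map_pow, FiniteField.pow_card]
  have h1 := (Finset.card_le_card hsub).trans
    ((Multiset.toFinset_card_le _).trans (Polynomial.card_roots' _))
  rw [FiniteField.X_pow_card_sub_X_natDegree_eq K Fintype.one_lt_card] at h1
  omega

theorem exists_frobHom : ∃ f : K →+* K, ∀ c, f c = c ^ Fintype.card k :=
  ⟨(FiniteField.frobeniusAlgHom k K).toRingHom, fun _ => rfl⟩

variable [Algebra.FiniteType k A] [IsDomain A] [IsAlgClosed K]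

/-- **Lang's theorem on points.** -/
theorem exists_lang (g : Pt (Red.bc (yK k K) (sp k A))) :
    ∃ w : Pt (Red.bc (yK k K) (sp k A)), w * (w ≫ frob K)⁻¹ = g := by
  let f := FiniteField.frobeniusAlgHom k A
  obtain ⟨v, hv⟩ := GrpSchLib.Lang.exists_comp_langMap_eq f (q := Fintype.card k) Fintype.one_lt_card (fun _ => rfl)
    (toPt A g).ofConv
  obtain ⟨w, hw⟩ := toPt_surjective (K := K) (toConv v)
  refine ⟨w, down_injective ?_⟩
  have hinv : down (w ≫ frob K)⁻¹ = (down (w ≫ frob K))⁻¹ := map_inv (MonoidHom.mk' (fun x => down x) down_mul) _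
  have hd : down w = spMap v := by rw [down_eq_spMap, hw, ofConv_toConv]
  have h2 : spMap (GrpSchLib.Lang.langMap f) = 𝟙 (sp k A) * (spMap f)⁻¹ := by
    rw [GrpSchLib.Lang.spMap_inv, ← spMap_id, spMap_mul]
    rfl
  rw [down_mul, hinv, frob, down_map, hd, down_eq_spMap, ← hv, ← spMap_comp, h2, MonObj.comp_mul, GrpObj.comp_inv,
    Category.comp_id]

/-- A scheme over a field which becomes a torus over an algebraically closed field is a torus. -/
theorem isTorus_of_bc {k : Type u} [Field k] {L : Type u} [Field L] [IsAlgClosed L]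
    (y : Spec (CommRingCat.of L) ⟶ Spec (CommRingCat.of k)) (T : Over (Spec (CommRingCat.of k))) [GrpObj T]
    (h : Red.IsTorus (Red.bc y T)) : Red.IsTorus T := by
  obtain ⟨r, ⟨e⟩⟩ := Deform.exists_split _ h
  haveI : Flat y := by
    rw [← Spec.map_preimage y]
    refine (HasRingHomProperty.Spec_iff (P := @Flat)).mpr ?_
    letI : Algebra k L := (Spec.preimage y).hom.toAlgebra
    exact (inferInstance : Module.Flat k L)
  haveI : Surjective y := ⟨fun x => ⟨IsLocalRing.closedPoint L, Subsingleton.elim (α := PrimeSpectrum k) _ _⟩⟩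
  haveI : Subsingleton ↥(Spec (CommRingCat.of L)) := inferInstanceAs (Subsingleton (PrimeSpectrum L))
  refine ⟨Spec (CommRingCat.of L), y, inferInstance, inferInstance, fun V hV =>
    ⟨y ⁻¹ᵁ V, Set.Subsingleton.isCompact Set.subsingleton_of_subsingleton,
      Set.image_preimage_eq _ y.surjective⟩, fun x => ⟨⊤, trivial, r, ?_⟩⟩
  let U : (Spec (CommRingCat.of L)).Opens := ⊤
  obtain ⟨a⟩ := GrpSchLib.MultTypeBC.bc_bc U.ι y T
  obtain ⟨b⟩ := GrpSchLib.MultTypeBC.bc_iso U.ι e
  obtain ⟨c⟩ := GrpSchLib.MultTypeBC.bc_DS U.ι (Fin r → ℤ)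
  exact ⟨a.symm ≪≫ b ≪≫ c⟩

end Groth.Agent.Deform.FrobDesc
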