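import Groth.Agent.Deform.FrobDesc.Lang
import Groth.Agent.Deform.Borel.Tori
import Groth.Agent.Deform.Borel.Image
import Groth.Agent.Deform.Borel.FieldFibre
import Groth.Agent.Deform.Borel.CentField
import Groth.Agent.S3927
import Groth.Agent.S8422

/-!
# Borel pairs over an algebraically closed field: conjugacy, and one stable under Frobenius
-/

set_option autoImplicit false
set_option linter.style.haveILetI false
set_option linter.unusedSectionVars false
set_option maxHeartbeats 2000000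

universe u

open CategoryTheory CategoryTheory.Limits MonoidalCategory CartesianMonoidalCategory MonObj AlgebraicGeometry

attribute [local instance] CategoryTheory.Hom.monoid CategoryTheory.Hom.group

noncomputable section

namespace Groth.Agent.Deform.FrobDesc

open Chev (Pt pimg)
open Borel (conj pt_conj comp_conj conj_mul conj_left_inv conj_right_inv)

section Pair

variable {L : Type u} [Field L] [IsAlgClosed L] {G : Over (Spec (CommRingCat.of L))} [GrpObj G]

theorem isMaxTorus_conj {T : Over (Spec (CommRingCat.of L))} [GrpObj T] {i : T ⟶ G} (hi : AGF.IsMaxTorus i)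
    (g : Pt G) : AGF.IsMaxTorus (i ≫ conj g) := by
  obtain ⟨hm, hmo, hT, hmax⟩ := hi
  haveI := hm; haveI := hmo
  refine ⟨inferInstance, inferInstance, hT, fun T' _ j _ _ f hT' hf => ?_⟩
  exact hmax T' (j ≫ conj g⁻¹) f hT' (by rw [reassoc_of% hf, conj_right_inv, Category.comp_id])

variable [IsAffine G.left] [Smooth G.hom] [ConnectedSpace G.left]

theorem exists_pair : ∃ (H : Over (Spec (CommRingCat.of L))) (_ : GrpObj H) (iH : H ⟶ G)
    (T : Over (Spec (CommRingCat.of L))) (_ : GrpObj T) (t : T ⟶ H),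
    Red.IsBorelOver L iH ∧ AGF.IsMaxTorus (t ≫ iH) := by
  haveI : IsAffineHom G.hom := isAffineHom_of_isAffine _
  haveI : QuasiCompact G.hom := inferInstance
  obtain ⟨T, iT, i, hi⟩ := Borel.exists_univTorus G
  obtain ⟨hm, hc, hT, -⟩ := id hi
  haveI := hm; haveI := hc
  haveI : Mono i := (Over.forget _).mono_of_mono_map (inferInstanceAs (Mono i.left))
  have hmax : AGF.IsMaxTorus i := ⟨hm, inferInstance, hT, fun T' _ j _ _ f hT' hf => hi.maximal T' j f hT' hf⟩
  obtain ⟨hTa, hTl, hTs, hTc⟩ := Deform.TorusBasic.props hT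
  haveI := hTa; haveI := hTs; haveI := hTc
  haveI := Borel.isSolvable_pts_of_torus hT
  obtain ⟨H, iH', iH, hH, -, huniv⟩ := Borel.exists_borel G
  obtain ⟨g, f, -, hf⟩ := huniv T i
  refine ⟨H, iH', iH ≫ conj g⁻¹, T, iT, f, Borel.isBorelOver_conj iH hH _, ?_⟩
  rw [reassoc_of% hf, ← comp_conj, Category.assoc, conj_right_inv, Category.comp_id]
  exact hmax

/-- Borel pairs are conjugate. -/
theorem exists_conj_pair {H H' T T' : Over (Spec (CommRingCat.of L))} [GrpObj H] [GrpObj H'] [GrpObj T] [GrpObj T']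
    {b : H ⟶ G} {b' : H' ⟶ G} (t : T ⟶ H) (t' : T' ⟶ H') (hb : Red.IsBorelOver L b) (hb' : Red.IsBorelOver L b')
    (ht : AGF.IsMaxTorus (t ≫ b)) (ht' : AGF.IsMaxTorus (t' ≫ b')) :
    ∃ (cg : Pt G) (φ : H ≅ H') (e : T ≅ T'), φ.hom ≫ b' = b ≫ conj cg ∧ e.hom ≫ t' ≫ b' = t ≫ b ≫ conj cg := by
  haveI : IsAffineHom G.hom := isAffineHom_of_isAffine _
  haveI : QuasiCompact G.hom := inferInstance
  obtain ⟨g, φ₀, hφ₀⟩ := (S8422.result L G).1 H H' b b' hb hb'
  replace hφ₀ : φ₀.hom ≫ b' = b ≫ conj g := by rw [comp_conj]; exact hφ₀.symm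
  obtain ⟨hbm, hbc, hbs, hbcn, -, -⟩ := id hb'
  haveI := hbm; haveI := hbc; haveI := hbs; haveI := hbcn
  haveI := hb.1
  haveI : IsAffine H'.left := isAffine_of_isAffineHom b'.left
  haveI : IsAffineHom H'.hom := isAffineHom_of_isAffine _
  haveI : Mono b' := (Over.forget _).mono_of_mono_map (inferInstanceAs (Mono b'.left))
  let u := t ≫ φ₀.hom
  have hu : u ≫ b' = (t ≫ b) ≫ conj g := by rw [Category.assoc, hφ₀, Category.assoc]
  obtain ⟨m1, mo1, hT1, max1⟩ := isMaxTorus_conj ht g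
  obtain ⟨m2, mo2, hT2, max2⟩ := id ht'
  haveI : IsMonHom (u ≫ b') := hu ▸ m1
  haveI : IsMonHom u := Deform.isMonHom_of_comp u b' (i := u ≫ b') rfl
  haveI : Mono (u ≫ b') := hu ▸ mo1
  haveI : Mono u := mono_of_mono u b'
  haveI := m2; haveI := mo2
  haveI : IsMonHom t' := Deform.isMonHom_of_comp t' b' (i := t' ≫ b') rfl
  haveI : Mono t' := mono_of_mono t' b'
  have h1 : AGF.IsMaxTorus u := ⟨inferInstance, inferInstance, hT1, fun T₂ _ j _ _ f hT₂ hf =>
    max1 T₂ (j ≫ b') f hT₂ (by rw [← Category.assoc, hf, hu])⟩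
  have h2 : AGF.IsMaxTorus t' := ⟨inferInstance, inferInstance, hT2, fun T₂ _ j _ _ f hT₂ hf =>
    max2 T₂ (j ≫ b') f hT₂ (by rw [← Category.assoc, hf])⟩
  obtain ⟨β, e, -, he⟩ := Borel.conj_of_max u t' h1 h2
  rw [← comp_conj] at he
  have hβ : conj β ≫ b' = b' ≫ conj (β ≫ b') := by
    rw [comp_conj]
    simp only [conj, AGF.conjBy, MonObj.mul_comp, GrpObj.inv_comp, Category.assoc, Category.id_comp]
  refine ⟨(β ≫ b') * g, φ₀ ≪≫ asIso (conj β), e, ?_, ?_⟩
  · rw [Iso.trans_hom, asIso_hom, Category.assoc, hβ, reassoc_of% hφ₀, Borel.conj_mul]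
  · rw [reassoc_of% he, hβ, ← Category.assoc u, hu, Category.assoc, Category.assoc, Borel.conj_mul]

/-- Being a torus is invariant under isomorphism. -/
theorem isTorus_of_iso {T T' : Over (Spec (CommRingCat.of L))} [GrpObj T] [GrpObj T'] (e : Grp.mk T ≅ Grp.mk T')
    (h : Red.IsTorus T') : Red.IsTorus T := by
  obtain ⟨S', f, h1, h2, h3, hloc⟩ := h
  refine ⟨S', f, h1, h2, h3, fun x => ?_⟩
  obtain ⟨U, hx, r, ⟨i⟩⟩ := hloc x
  obtain ⟨a⟩ := GrpSchLib.MultTypeBC.bc_iso (U.ι ≫ f) e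
  exact ⟨U, hx, r, ⟨a ≪≫ i⟩⟩

/-- The image of a Borel pair under a surjective endomorphism. -/
theorem exists_image_pair (F : G ⟶ G) [IsMonHom F] [Surjective F.left] {H T : Over (Spec (CommRingCat.of L))}
    [GrpObj H] [GrpObj T] {b : H ⟶ G} (t : T ⟶ H) (hb : Red.IsBorelOver L b) (ht : AGF.IsMaxTorus (t ≫ b)) :
    ∃ (cg : Pt G) (p : H ⟶ H) (p' : T ⟶ T), Surjective p.left ∧ Surjective p'.left ∧
      p ≫ b ≫ conj cg = b ≫ F ∧ p' ≫ t ≫ b ≫ conj cg = t ≫ b ≫ F := by
  haveI : IsAffineHom G.hom := isAffineHom_of_isAffine _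
  haveI : QuasiCompact G.hom := inferInstance
  obtain ⟨hbm, hbc, hbs, hbcn, -, -⟩ := id hb
  haveI := hbm; haveI := hbc; haveI := hbs; haveI := hbcn
  haveI : IsAffine H.left := isAffine_of_isAffineHom b.left
  haveI : IsAffineHom H.hom := isAffineHom_of_isAffine _
  obtain ⟨htm, htmo, hT, -⟩ := id ht
  haveI := htm; haveI := htmo
  obtain ⟨hTa, hTl, hTs, hTc⟩ := Deform.TorusBasic.props hT
  haveI := hTa; haveI := hTs; haveI := hTc
  haveI : IsAffineHom T.hom := isAffineHom_of_isAffine _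
  obtain ⟨I, iI, p, i, hpm, him, hpi, hic, hpf, hps, hIl, hIq⟩ := Agent.GrpSchLib.ImageFactor.exists_image (b ≫ F)
  obtain ⟨J, iJ, q, j, hqm, hjm, hqj, hjc, hqf, hqs, hJl, hJq⟩ :=
    Agent.GrpSchLib.ImageFactor.exists_image ((t ≫ b) ≫ F)
  haveI := hpm; haveI := him; haveI := hic; haveI := hpf; haveI := hps; haveI := hIl; haveI := hIq
  haveI := hqm; haveI := hjm; haveI := hjc; haveI := hqf; haveI := hqs; haveI := hJl; haveI := hJq
  haveI : Smooth I.hom := GrpSchLib.smooth_of_quotient p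
  haveI : Smooth J.hom := GrpSchLib.smooth_of_quotient q
  haveI : IsReduced J.left := GrpSchLib.isReduced_of_smooth_field J.hom
  have hbI : Red.IsBorelOver L i := Borel.isBorelOver_image F hb i p hpi
  have htJ : AGF.IsMaxTorus j := S3927.result L G G F T (t ≫ b) ht J j hjc q hqj
  obtain ⟨d, hd⟩ := Chev.exists_lift_range i j (by
    intro z hz
    obtain ⟨w, rfl⟩ := hz
    obtain ⟨w', rfl⟩ := q.left.surjective w
    refine ⟨(t ≫ p).left w', ?_⟩
    show ((t ≫ p) ≫ i).left w' = (q ≫ j).left w'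
    rw [Category.assoc, hpi, hqj, Category.assoc])
  obtain ⟨cg, φ, e, hφ, he⟩ := exists_conj_pair t d hb hbI ht (by rw [hd]; exact htJ)
  haveI : IsIso φ.inv.left := ((Over.forget _).mapIso φ).isIso_inv
  haveI : IsIso e.inv.left := ((Over.forget _).mapIso e).isIso_inv
  refine ⟨cg, p ≫ φ.inv, q ≫ e.inv, inferInstanceAs (Surjective (p.left ≫ φ.inv.left)),
    inferInstanceAs (Surjective (q.left ≫ e.inv.left)), ?_, ?_⟩
  · rw [← hφ, Category.assoc, Iso.inv_hom_id_assoc, hpi]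
  · rw [← he, Category.assoc, Iso.inv_hom_id_assoc, hd, hqj, Category.assoc]

end Pair

open GrpSchLib.AffineHopf (sp spMap)

variable {k : Type u} [Field k] [Fintype k] {A : Type u} [CommRing A] [HopfAlgebra k A] [Algebra.FiniteType k A]
  [IsDomain A] {K : Type u} [Field K] [Algebra k K] [IsAlgClosed K]

/-- **A Borel pair defined over the finite field.** -/
theorem exists_pair_descent [IsAffine (Red.bc (yK k K) (sp k A)).left] [Smooth (Red.bc (yK k K) (sp k A)).hom]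
    [ConnectedSpace (Red.bc (yK k K) (sp k A)).left] :
    ∃ (J J' : Ideal A) (_ : J.IsHopfIdeal k) (_ : J'.IsHopfIdeal k) (t : sp k (A ⧸ J') ⟶ sp k (A ⧸ J)),
      IsClosedImmersion (spMap (Ideal.Quotient.mkₐ k J) : sp k (A ⧸ J) ⟶ sp k A).left ∧
      t ≫ spMap (Ideal.Quotient.mkₐ k J) = spMap (Ideal.Quotient.mkₐ k J') ∧
      Red.IsBorelOver K ((Over.pullback (yK k K)).map (spMap (Ideal.Quotient.mkₐ k J))) ∧
      AGF.IsMaxTorus ((Over.pullback (yK k K)).map (spMap (Ideal.Quotient.mkₐ k J'))) := by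
  let GK := Red.bc (yK k K) (sp k A)
  haveI : IsAffineHom GK.hom := isAffineHom_of_isAffine _
  obtain ⟨H, iH', b, T, iT, t, hb, ht⟩ := exists_pair (G := GK)
  obtain ⟨cg, p, p', hp, hp', hpb, hpt⟩ := exists_image_pair (frob K : GK ⟶ GK) t hb ht
  haveI := hp; haveI := hp'
  obtain ⟨w, hw⟩ := exists_lang (k := k) (A := A) (K := K) cg⁻¹
  have hcg : cg = (w⁻¹ ≫ frob K)⁻¹ * w⁻¹ := by
    rw [GrpObj.inv_comp, _root_.inv_inv, ← _root_.inv_inv cg, ← hw, _root_.mul_inv_rev, _root_.inv_inv]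
  have hF : ∀ {X : Over (Spec (CommRingCat.of K))} (x : Pt X) (c : X ⟶ GK) (p : X ⟶ X),
      p ≫ c ≫ conj cg = c ≫ frob K → (x ≫ c ≫ conj w⁻¹) ≫ frob K = (x ≫ p) ≫ c ≫ conj w⁻¹ := by
    intro X x c p h
    have h1 : x ≫ c ≫ frob K = cg * ((x ≫ p) ≫ c) * cg⁻¹ := by
      rw [← h, ← Category.assoc p, ← Category.assoc x, pt_conj, Category.assoc x p c]
    rw [← Category.assoc x, pt_conj, ← Category.assoc (x ≫ p), pt_conj, MonObj.mul_comp, MonObj.mul_comp,
      GrpObj.inv_comp, GrpObj.inv_comp, Category.assoc x, h1, hcg]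
    simp only [GrpObj.inv_comp, _root_.mul_inv_rev, _root_.inv_inv]
    group
  obtain ⟨f, hf⟩ := exists_frobHom (k := k) (K := K)
  have hsu : ∀ {X : Over (Spec (CommRingCat.of K))} [GrpObj X] [LocallyOfFiniteType X.hom] (c : X ⟶ GK) (p : X ⟶ X)
      [Surjective p.left], p ≫ c ≫ conj cg = c ≫ frob K → ∀ x : Pt X, ∃ x' : Pt X,
        ∀ a, (toPt A (x ≫ c ≫ conj w⁻¹)).ofConv a = (toPt A (x' ≫ c ≫ conj w⁻¹)).ofConv a ^ Fintype.card k := by
    intro X _ _ c p _ h x
    obtain ⟨x', hx'⟩ := Borel.exists_pt_over p x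
    refine ⟨x', fun a => ?_⟩
    rw [← toPt_frob, hF x' c p h, hx']
  have htb := isMaxTorus_conj ht w⁻¹
  obtain ⟨htm, htmo, hT, -⟩ := id htb
  haveI := htm; haveI := htmo
  obtain ⟨hTa, hTl, hTs, hTc⟩ := Deform.TorusBasic.props hT
  haveI := hTs
  haveI : IsClosedImmersion ((t ≫ b) ≫ conj w⁻¹).left := Borel.isClosedImmersion_of_mono _
  haveI : IsReduced T.left := GrpSchLib.isReduced_of_smooth_field T.hom
  have hbc := Borel.isBorelOver_conj b hb w⁻¹
  obtain ⟨hbm, hbcl, hbs, -, -, -⟩ := id hbc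
  haveI := hbm; haveI := hbcl; haveI := hbs
  haveI : IsReduced H.left := GrpSchLib.isReduced_of_smooth_field H.hom
  obtain ⟨J, hJ, e, hem, he, hJc⟩ := exists_descent f hf mem_range_of_pow_card (b ≫ conj w⁻¹) (hsu b p hpb)
  obtain ⟨J', hJ', e', he'm, he', hJ'c⟩ := exists_descent f hf mem_range_of_pow_card ((t ≫ b) ≫ conj w⁻¹)
    (fun x => by
      obtain ⟨x', hx'⟩ := hsu (t ≫ b) p' (by simpa only [Category.assoc] using hpt) x
      exact ⟨x', fun a => by simpa only [Category.assoc] using hx' a⟩)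
  haveI := hem; haveI := he'm; haveI := hJc
  haveI : IsMonHom ((Over.pullback (yK k K)).map (spMap (Ideal.Quotient.mkₐ k J))) := by rw [← he]; infer_instance
  obtain ⟨d, hd⟩ := Borel.exists_lift_of_bc (yK k K) (spMap (Ideal.Quotient.mkₐ k J)) (spMap (Ideal.Quotient.mkₐ k J'))
    ⟨e'.hom ≫ t ≫ e.inv, by
      rw [← he, ← he']; simp only [Category.assoc, Iso.inv_hom_id_assoc]⟩
  refine ⟨J, J', hJ, hJ', d, hJc, hd, Borel.isBorelOver_of_iso hbc e he, ?_⟩
  haveI : IsMonHom ((Over.pullback (yK k K)).map (spMap (Ideal.Quotient.mkₐ k J'))) := by rw [← he']; infer_instance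
  obtain ⟨-, -, -, hmax⟩ := id htb
  refine ⟨inferInstance, by rw [← he']; infer_instance, ?_, fun T' _ j _ _ g hT' hg => ?_⟩
  · exact isTorus_of_iso (Grp.mkIso' e') hT
  · haveI := hmax T' j (e'.inv ≫ g) hT' (by rw [Category.assoc, hg, ← he', Iso.inv_hom_id_assoc])
    exact @IsIso.of_isIso_comp_left _ _ _ _ _ e'.inv g e'.isIso_inv ‹_›

end Groth.Agent.Deform.FrobDesc
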