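import Groth.Agent.GrpSchLib.AffineHopf

import Groth.Agent.Deform.Rational.Cell

/-!
# Points of a base change to a field as points of the Hopf algebra
-/

set_option autoImplicit false
set_option linter.style.haveILetI false
set_option linter.unusedSectionVars false

universe u

open CategoryTheory CategoryTheory.Limits MonoidalCategory CartesianMonoidalCategory MonObj AlgebraicGeometry
open WithConv
open scoped TensorProduct

attribute [local instance] CategoryTheory.Hom.monoid CategoryTheory.Hom.group

noncomputable section

namespace Groth.Agent.Deform.FrobDesc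

open GrpSchLib.AffineHopf (sp spMap spMap_eq_mapMulEquiv)
open Chev (Pt pimg)

variable (k K : Type u) [Field k] [Field K] [Algebra k K]

/-- The structure map of the base change. -/
abbrev yK : Spec (CommRingCat.of K) ⟶ Spec (CommRingCat.of k) := Spec.map (CommRingCat.ofHom (algebraMap k K))

variable {k K}

/-- A rational point of the base change as a point with values in the field. -/
def down {X : Over (Spec (CommRingCat.of k))} (x : Pt (Red.bc (yK k K) X)) : sp k K ⟶ X :=
  Over.homMk (x.left ≫ pullback.fst X.hom (yK k K)) (by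
    show (x.left ≫ pullback.fst X.hom (yK k K)) ≫ X.hom = yK k K
    rw [Category.assoc, pullback.condition, ← Category.assoc,
      show x.left ≫ pullback.snd X.hom (yK k K) = 𝟙 _ from Over.w x, Category.id_comp])

theorem down_left {X : Over (Spec (CommRingCat.of k))} (x : Pt (Red.bc (yK k K) X)) :
    (down x).left = x.left ≫ pullback.fst X.hom (yK k K) := rfl

theorem down_injective {X : Over (Spec (CommRingCat.of k))} :
    Function.Injective (down : Pt (Red.bc (yK k K) X) → (sp k K ⟶ X)) := fun x x' h => by
  refine Over.OverMorphism.ext (pullback.hom_ext (congrArg (fun m => m.left) h) ?_)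
  exact (Over.w x).trans (Over.w x').symm

theorem exists_down_eq {X : Over (Spec (CommRingCat.of k))} (u : sp k K ⟶ X) :
    ∃ x : Pt (Red.bc (yK k K) X), down x = u :=
  ⟨Over.homMk (pullback.lift u.left (𝟙 _) ((Over.w u).trans (Category.id_comp _).symm)) (pullback.lift_snd _ _ _),
    Over.OverMorphism.ext (pullback.lift_fst _ _ _)⟩

theorem down_map {X Y : Over (Spec (CommRingCat.of k))} (x : Pt (Red.bc (yK k K) X)) (g : X ⟶ Y) :
    down (x ≫ (Over.pullback (yK k K)).map g) = down x ≫ g := by
  refine Over.OverMorphism.ext ?_
  have e : ((Over.pullback (yK k K)).map g).left ≫ pullback.fst Y.hom (yK k K) =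
      pullback.fst X.hom (yK k K) ≫ g.left := pullback.lift_fst _ _ _
  show (x.left ≫ ((Over.pullback (yK k K)).map g).left) ≫ pullback.fst Y.hom (yK k K) =
    (x.left ≫ pullback.fst X.hom (yK k K)) ≫ g.left
  rw [Category.assoc, e, ← Category.assoc]

theorem down_mul {X : Over (Spec (CommRingCat.of k))} [GrpObj X] (x x' : Pt (Red.bc (yK k K) X)) :
    down (x * x') = down x * down x' := by
  let e := (Functor.Monoidal.μIso (Over.pullback (yK k K)) X X)
  have h : lift x x' ≫ μ[Red.bc (yK k K) X] = (lift x x' ≫ e.hom) ≫ (Over.pullback (yK k K)).map μ[X] := by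
    rw [Category.assoc]; rfl
  rw [Hom.mul_def, h, down_map, Hom.mul_def]
  congr 1
  apply CartesianMonoidalCategory.hom_ext
  · rw [← down_map, lift_fst, Category.assoc, Functor.Monoidal.μIso_hom, Functor.Monoidal.μ_fst, lift_fst]
  · rw [← down_map, lift_snd, Category.assoc, Functor.Monoidal.μIso_hom, Functor.Monoidal.μ_snd, lift_snd]

/-- Points with values in a field as convolution elements. -/
def conv (A : Type u) [CommRing A] [HopfAlgebra k A] : (sp k K ⟶ sp k A) ≃* WithConv (A →ₐ[k] K) :=
  Spec.mapMulEquiv.symm

/-- A rational point of the base change as a point of the Hopf algebra. -/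
def toPt (A : Type u) [CommRing A] [HopfAlgebra k A] : Pt (Red.bc (yK k K) (sp k A)) →* WithConv (A →ₐ[k] K) :=
  (conv (k := k) (K := K) A).toMonoidHom.comp (MonoidHom.mk' (fun x => down x) down_mul)

theorem toPt_apply {A : Type u} [CommRing A] [HopfAlgebra k A] (x : Pt (Red.bc (yK k K) (sp k A))) :
    toPt A x = conv (k := k) (K := K) A (down x) := by simp [toPt]

variable {A : Type u} [CommRing A] [HopfAlgebra k A]

theorem down_eq_spMap (x : Pt (Red.bc (yK k K) (sp k A))) : down x = spMap (toPt A x).ofConv := by
  rw [toPt_apply]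
  exact ((conv (k := k) (K := K) A).symm_apply_apply (down x)).symm

theorem toPt_injective : Function.Injective (toPt (k := k) (K := K) A) := fun x x' h =>
  down_injective ((conv (k := k) (K := K) A).injective (by rwa [toPt_apply, toPt_apply] at h))

theorem toPt_surjective : Function.Surjective (toPt (k := k) (K := K) A) := fun u => by
  obtain ⟨x, hx⟩ := exists_down_eq ((conv (k := k) (K := K) A).symm u)
  exact ⟨x, (toPt_apply x).trans <| (congrArg (conv (k := k) (K := K) A) hx).trans ((conv (k := k) (K := K) A).apply_symm_apply u)⟩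

theorem toPt_map {B : Type u} [CommRing B] [HopfAlgebra k B] (h : B →ₐ[k] A) (x : Pt (Red.bc (yK k K) (sp k A))) :
    toPt B (x ≫ (Over.pullback (yK k K)).map (spMap h)) = toConv ((toPt A x).ofConv.comp h) := by
  rw [toPt_apply, down_map, down_eq_spMap, GrpSchLib.AffineHopf.spMap_comp]
  exact (conv (k := k) (K := K) B).apply_symm_apply _

/-- The base change of an affine scheme is affine, with these points. -/
def bcIso (A : Type u) [CommRing A] [Algebra k A] :
    (Red.bc (yK k K) (sp k A)).left ≅ Spec (CommRingCat.of (A ⊗[k] K)) := pullbackSpecIso k A K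

theorem pt_bcIso (x : Pt (Red.bc (yK k K) (sp k A))) :
    x.left ≫ (bcIso A).hom = Spec.map (CommRingCat.ofHom
      (Algebra.TensorProduct.lift (toPt A x).ofConv (AlgHom.id k K) fun _ _ => Commute.all _ _).toRingHom) := by
  rw [← Iso.eq_comp_inv]
  refine pullback.hom_ext ?_ ?_
  · rw [← down_left, down_eq_spMap, Category.assoc]
    refine Eq.trans ?_ (congrArg (fun m => Spec.map _ ≫ m) (pullbackSpecIso_inv_fst k A K).symm)
    refine Eq.trans ?_ (Spec.map_comp _ _)
    refine congrArg Spec.map (CommRingCat.hom_ext (RingHom.ext fun a => ?_))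
    simp
  · rw [show x.left ≫ pullback.snd (sp k A).hom (yK k K) = 𝟙 _ from Over.w x, Category.assoc]
    refine Eq.trans ?_ (congrArg (fun m => Spec.map _ ≫ m) (pullbackSpecIso_inv_snd k A K).symm)
    refine Eq.trans ?_ (Spec.map_comp _ _)
    refine (Spec.map_id _).symm.trans ?_
    refine congrArg Spec.map (CommRingCat.hom_ext (RingHom.ext fun a => ?_))
    simp

end Groth.Agent.Deform.FrobDesc
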